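import Mathlib

/-!
Over an uncountable field an irreducible closed subset of a scheme of finite type has a closed point
outside countably many closed subsets not containing it.
-/

set_option autoImplicit false
universe u

open CategoryTheory AlgebraicGeometry Topology

namespace Groth.Agent.UncountLib

/-- Countably many nonzero polynomials over an uncountable field have a common non-zero. -/
theorem exists_eval_ne_zero {k : Type u} [Field k] [Uncountable k] :
    ∀ (d : ℕ) (g : ℕ → MvPolynomial (Fin d) k), (∀ n, g n ≠ 0) →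
      ∃ x : Fin d → k, ∀ n, MvPolynomial.eval x (g n) ≠ 0 := by
  intro d
  induction d with
  | zero =>
    intro g hg
    refine ⟨Fin.elim0, fun n => ?_⟩
    rw [MvPolynomial.eq_C_of_isEmpty (g n), MvPolynomial.eval_C]
    intro h
    exact hg n (by rw [MvPolynomial.eq_C_of_isEmpty (g n), h, map_zero])
  | succ d ih =>
    intro g hg
    have hl : ∀ n, (MvPolynomial.finSuccEquiv k d (g n)).leadingCoeff ≠ 0 := fun n => by
      rw [Polynomial.leadingCoeff_ne_zero]
      exact fun h => hg n ((MvPolynomial.finSuccEquiv k d).injective (by rw [h, map_zero]))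
    obtain ⟨x, hx⟩ := ih _ hl
    have hne : ∀ n, ((MvPolynomial.finSuccEquiv k d (g n)).map (MvPolynomial.eval x)) ≠ 0 := fun n h => by
      have := congrArg (fun p : Polynomial k => p.coeff (MvPolynomial.finSuccEquiv k d (g n)).natDegree) h
      simp only [Polynomial.coeff_map, Polynomial.coeff_zero] at this
      exact hx n this
    have hc : (⋃ n, {y : k | ((MvPolynomial.finSuccEquiv k d (g n)).map (MvPolynomial.eval x)).IsRoot y}).Countable :=
      Set.countable_iUnion fun n => (Polynomial.finite_setOfPred_isRoot (hne n)).countable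
    obtain ⟨y, hy⟩ : ∃ y, y ∉ ⋃ n, {y : k | ((MvPolynomial.finSuccEquiv k d (g n)).map (MvPolynomial.eval x)).IsRoot y} := by
      by_contra h
      push Not at h
      exact not_countable (Set.countable_univ_iff.1 (hc.mono fun y _ => h y))
    refine ⟨Fin.cons y x, fun n h => hy (Set.mem_iUnion.2 ⟨n, ?_⟩)⟩
    rw [MvPolynomial.eval_eq_eval_mv_eval'] at h
    exact h

/-- Countably many nonzero elements of a finitely generated domain over an uncountable field are
simultaneously nonzero at some maximal ideal. -/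
theorem exists_isMaximal_notMem {k A : Type u} [Field k] [Uncountable k] [CommRing A] [IsDomain A]
    [Algebra k A] [Algebra.FiniteType k A] (f : ℕ → A) (hf : ∀ n, f n ≠ 0) :
    ∃ M : Ideal A, M.IsMaximal ∧ ∀ n, f n ∉ M := by
  obtain ⟨d, g, hg, hgi⟩ := exists_integral_inj_algHom_of_fg k A
  letI := g.toRingHom.toAlgebra
  haveI : Algebra.IsIntegral (MvPolynomial (Fin d) k) A := ⟨hgi⟩
  have h : ∀ n, ∃ p : MvPolynomial (Fin d) k, p ≠ 0 ∧ g p ∈ Ideal.span {f n} := fun n => by
    have := Ideal.comap_ne_bot_of_integral_mem (R := MvPolynomial (Fin d) k) (hf n)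
      (Ideal.mem_span_singleton_self (f n)) (Algebra.IsIntegral.isIntegral _)
    obtain ⟨p, hp, hp0⟩ := Submodule.exists_mem_ne_zero_of_ne_bot this
    exact ⟨p, hp0, hp⟩
  choose p hp0 hp using h
  obtain ⟨x, hx⟩ := exists_eval_ne_zero d p hp0
  let m : Ideal (MvPolynomial (Fin d) k) := RingHom.ker (MvPolynomial.eval x)
  haveI : m.IsMaximal := RingHom.ker_isMaximal_of_surjective _ fun a => ⟨MvPolynomial.C a, MvPolynomial.eval_C a⟩
  obtain ⟨M, hM, hMm⟩ := Ideal.exists_ideal_over_maximal_of_isIntegral (S := A) m (by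
    rw [(RingHom.injective_iff_ker_eq_bot _).1 (show Function.Injective (algebraMap (MvPolynomial (Fin d) k) A) from hg)]
    exact bot_le)
  refine ⟨M, hM, fun n hn => hx n ?_⟩
  have : p n ∈ Ideal.comap (algebraMap (MvPolynomial (Fin d) k) A) M :=
    (Ideal.span_singleton_le_iff_mem _).2 hn (hp n)
  rwa [hMm] at this

/-- An irreducible closed subset of a scheme of finite type over an uncountable field contains a closed
point outside countably many closed subsets none of which contains it. -/
theorem exists_closedPoint_notMem {k : Type u} [Field k] [Uncountable k] {X : Scheme.{u}}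
    (f : X ⟶ Spec (CommRingCat.of k)) [LocallyOfFiniteType f] {T : Set X} (hT : IsIrreducible T)
    (hTc : IsClosed T) (F : ℕ → Set X) (hF : ∀ n, IsClosed (F n)) (hTF : ∀ n, ¬ T ⊆ F n) :
    ∃ x ∈ T, IsClosed ({x} : Set X) ∧ ∀ n, x ∉ F n := by
  haveI : JacobsonSpace ↥X := LocallyOfFiniteType.jacobsonSpace f
  obtain ⟨η, hη⟩ := QuasiSober.sober hT hTc
  obtain ⟨U, hU, hηU, -⟩ := exists_isAffineOpen_mem_and_subset (TopologicalSpace.Opens.mem_top η)
  let R := Γ(X, U)
  have hft : ((Scheme.ΓSpecIso (CommRingCat.of k)).inv ≫ f.appLE ⊤ U le_top).hom.FiniteType := by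
    rw [CommRingCat.hom_comp]
    refine RingHom.FiniteType.comp ?_ (RingHom.FiniteType.of_surjective _
      (Scheme.ΓSpecIso (CommRingCat.of k)).symm.commRingCatIsoToRingEquiv.surjective)
    exact LocallyOfFiniteType.finiteType_appLE f (isAffineOpen_top _) hU le_top
  letI : Algebra k R := ((Scheme.ΓSpecIso (CommRingCat.of k)).inv ≫ f.appLE ⊤ U le_top).hom.toAlgebra
  haveI : Algebra.FiniteType k R := hft
  let P : PrimeSpectrum R := hU.primeIdealOf ⟨η, hηU⟩
  have hP : hU.fromSpec P = η := hU.fromSpec_primeIdealOf ⟨η, hηU⟩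
  have h1 : ∀ n, ∃ a : R, a ∉ P.asIdeal ∧ ∀ q : PrimeSpectrum R, hU.fromSpec q ∈ F n → a ∈ q.asIdeal := fun n => by
    have hc : IsClosed (hU.fromSpec ⁻¹' F n) := (hF n).preimage hU.fromSpec.continuous
    obtain ⟨s, hs⟩ := (PrimeSpectrum.isClosed_iff_zeroLocus _).1 hc
    have hnot : ¬ s ⊆ P.asIdeal := fun h => hTF n (by
      have hmem : hU.fromSpec P ∈ F n := hs.ge h
      rw [hP] at hmem
      rw [← hη.def]
      exact closure_minimal (Set.singleton_subset_iff.2 hmem) (hF n))
    obtain ⟨a, ha, haP⟩ := Set.not_subset.1 hnot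
    refine ⟨a, haP, fun q hq => ?_⟩
    have hq' : q ∈ hU.fromSpec ⁻¹' F n := hq
    rw [hs] at hq'
    exact hq' ha
  choose a haP ha using h1
  obtain ⟨M, hM, hMa⟩ := exists_isMaximal_notMem (k := k) (A := R ⧸ P.asIdeal)
    (fun n => Ideal.Quotient.mk P.asIdeal (a n)) (fun n h => haP n (Ideal.Quotient.eq_zero_iff_mem.1 h))
  haveI : (M.comap (Ideal.Quotient.mk P.asIdeal)).IsMaximal :=
    Ideal.comap_isMaximal_of_surjective _ Ideal.Quotient.mk_surjective
  let q : PrimeSpectrum R := ⟨M.comap (Ideal.Quotient.mk P.asIdeal), inferInstance⟩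
  refine ⟨hU.fromSpec q, ?_, ?_, fun n hn => hMa n (ha n q hn)⟩
  · have hle : P ⤳ q := (PrimeSpectrum.le_iff_specializes P q).1 fun r hr => by
      show Ideal.Quotient.mk P.asIdeal r ∈ M
      rw [Ideal.Quotient.eq_zero_iff_mem.2 hr]
      exact zero_mem M
    have := hle.map hU.fromSpec.continuous
    rw [hP] at this
    exact hη.specializes_iff_mem.1 this
  · have hq : q ∈ closedPoints (PrimeSpectrum R) :=
      (PrimeSpectrum.isClosed_singleton_iff_isMaximal q).2 inferInstance
    have hpre := hU.fromSpec.isOpenEmbedding.preimage_closedPoints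
    exact hpre.ge hq

end Groth.Agent.UncountLib
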